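import Mathlib
import Groth.Prelude.Def_SGA3b
import Groth.Prelude.Def_CartDual
import Groth.Agent.Lib.Helper6.Versch.VF

/-!
# Cartier duality and isotriviality, part 1: points of the dual Hopf algebra are the characters
(group-like elements of `S ⊗ A` correspond to `R`-algebra maps `D(A) → S`), for `A` finite
projective over an arbitrary commutative ring (helper6; the first half follows helper9's
`CartDualChar`, which treats the case of a field)
-/

set_option autoImplicit false
set_option linter.unusedSectionVars false
set_option linter.unusedVariables false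
set_option linter.unusedSimpArgs false
set_option linter.style.haveILetI false
set_option linter.overlappingInstances false
set_option maxHeartbeats 800000
set_option synthInstance.maxHeartbeats 400000

universe u
open TensorProduct Coalgebra CartDual

namespace Groth.Agent.Lib.Helper6.CartIso

section Pair

variable (R : Type u) [CommRing R] (A : Type u) [CommRing A] [HopfAlgebra R A]
  (S : Type u) [CommRing S] [Algebra R S]

/-- Base change of a linear form to an `S`-linear form on `S ⊗ A`. -/
noncomputable def bc (x : D R A) : S ⊗[R] A →ₗ[S] S :=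
  Module.Dual.baseChange S (toDual R A x)

theorem bc_tmul (x : D R A) (s : S) (a : A) : bc R A S x (s ⊗ₜ a) = x a • s := rfl

theorem bc_add (x y : D R A) : bc R A S (x + y) = bc R A S x + bc R A S y := by
  simp [bc]

theorem bc_smul (c : R) (x : D R A) : bc R A S (c • x) = c • bc R A S x := by
  simp [bc]

theorem bc_zero : bc R A S (0 : D R A) = 0 := by
  simp [bc]

theorem bc_sum {ι : Type*} (s : Finset ι) (x : ι → D R A) :
    bc R A S (∑ i ∈ s, x i) = ∑ i ∈ s, bc R A S (x i) := by
  classical
  induction s using Finset.induction_on with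
  | empty => simp [bc_zero]
  | insert a s ha ih => rw [Finset.sum_insert ha, Finset.sum_insert ha, bc_add, ih]

/-- the pairing with a fixed element, as a linear map on the dual -/
noncomputable def pairL (g : S ⊗[R] A) : D R A →ₗ[R] S where
  toFun x := bc R A S x g
  map_add' x y := by rw [bc_add, LinearMap.add_apply]
  map_smul' c x := by rw [bc_smul, LinearMap.smul_apply, RingHom.id_apply]

theorem pairL_apply (g : S ⊗[R] A) (x : D R A) : pairL R A S g x = bc R A S x g := rfl

theorem counit_eq_bc_one (g : S ⊗[R] A) :
    Coalgebra.counit (R := S) g = bc R A S (1 : D R A) g := by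
  induction g using TensorProduct.induction_on with
  | zero => simp
  | tmul r a =>
    rw [TensorProduct.counit_tmul, bc_tmul]
    simp [LinearMap.convOne_apply]
  | add g h hg hh => simp only [map_add, hg, hh]

/-- The `S`-linear form on the tensor square attached to two forms. -/
noncomputable def P (x y : D R A) : (S ⊗[R] A) ⊗[S] (S ⊗[R] A) →ₗ[S] S :=
  LinearMap.mul' S S ∘ₗ TensorProduct.map (bc R A S x) (bc R A S y)

theorem P_tmul (x y : D R A) (m n : S ⊗[R] A) :
    P R A S x y (m ⊗ₜ n) = bc R A S x m * bc R A S y n := by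
  simp [P]

theorem P_comul_aux (x y : D R A) (r : S) (t : A ⊗[R] A) :
    P R A S x y (TensorProduct.AlgebraTensorModule.tensorTensorTensorComm R S R S S S A A
      ((1 ⊗ₜ[S] r) ⊗ₜ[R] t)) =
      (LinearMap.mul' R R (TensorProduct.map x.ofConv y.ofConv t)) • r := by
  induction t using TensorProduct.induction_on with
  | zero => simp
  | tmul a b =>
    rw [TensorProduct.AlgebraTensorModule.tensorTensorTensorComm_tmul, P_tmul, bc_tmul, bc_tmul]
    simp [coe_apply, mul_smul]
    rw [smul_comm]
  | add t t' ht ht' =>
    rw [TensorProduct.tmul_add, map_add, map_add, ht, ht', map_add, map_add, add_smul]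

theorem P_comul (x y : D R A) (g : S ⊗[R] A) :
    P R A S x y (Coalgebra.comul (R := S) g) = bc R A S (x * y) g := by
  induction g using TensorProduct.induction_on with
  | zero => simp
  | tmul r a =>
    rw [TensorProduct.comul_tmul, CommSemiring.comul_apply, P_comul_aux, bc_tmul,
      LinearMap.convMul_apply]
  | add g h hg hh => simp only [map_add, hg, hh]

variable {R A S}

theorem bc_one_of_isGroupLikeElem {g : S ⊗[R] A} (hg : IsGroupLikeElem S g) :
    bc R A S 1 g = 1 := by
  rw [← counit_eq_bc_one, hg.counit_eq_one]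

theorem bc_mul_of_isGroupLikeElem {g : S ⊗[R] A} (hg : IsGroupLikeElem S g) (x y : D R A) :
    bc R A S (x * y) g = bc R A S x g * bc R A S y g := by
  rw [← P_comul, hg.comul_eq_tmul_self, P_tmul]

/-- the character of the dual attached to a group-like element -/
noncomputable def charOf {g : S ⊗[R] A} (hg : IsGroupLikeElem S g) : D R A →ₐ[R] S :=
  AlgHom.ofLinearMap (pairL R A S g) (bc_one_of_isGroupLikeElem hg)
    (fun x y => bc_mul_of_isGroupLikeElem hg x y)

theorem charOf_apply {g : S ⊗[R] A} (hg : IsGroupLikeElem S g) (x : D R A) :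
    charOf hg x = bc R A S x g := rfl

end Pair

section DualBasis

variable {R : Type u} [CommRing R] {A : Type u} [CommRing A] [HopfAlgebra R A]
  (S : Type u) [CommRing S] [Algebra R S]
variable {n : ℕ} (e : Fin n → A) (f : Fin n → (A →ₗ[R] R)) (hef : ∀ a, ∑ i, f i a • e i = a)

/-- the dual coordinate forms, in the carrier of the dual -/
noncomputable def fD (i : Fin n) : D R A := WithConv.toConv (f i)

theorem fD_apply (i : Fin n) (a : A) : fD f i a = f i a := rfl

include hef in
theorem sum_apply_smul_fD (x : D R A) : ∑ i, x (e i) • fD f i = x := by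
  apply WithConv.ext
  apply LinearMap.ext
  intro a
  have h1 : ((∑ i, x (e i) • fD f i : D R A)).ofConv a = ∑ i, x (e i) * f i a := by
    rw [WithConv.ofConv_sum, LinearMap.sum_apply]
    refine Finset.sum_congr rfl fun i _ => ?_
    rw [WithConv.ofConv_smul, LinearMap.smul_apply, smul_eq_mul]
    rfl
  rw [h1]
  conv_rhs => rw [← hef a, map_sum]
  refine Finset.sum_congr rfl fun i _ => ?_
  rw [map_smul, smul_eq_mul, mul_comm]

include hef in
theorem expand (g : S ⊗[R] A) :
    ∑ i, bc R A S (fD f i) g • ((1 : S) ⊗ₜ[R] e i) = g := by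
  induction g using TensorProduct.induction_on with
  | zero => simp
  | tmul s a =>
    have h1 : ∀ i, bc R A S (fD f i) (s ⊗ₜ[R] a) • ((1 : S) ⊗ₜ[R] e i) =
        s ⊗ₜ[R] (f i a • e i) := by
      intro i
      rw [bc_tmul, fD_apply, TensorProduct.smul_tmul', smul_eq_mul, mul_one,
        TensorProduct.smul_tmul]
    rw [Finset.sum_congr rfl fun i _ => h1 i, ← TensorProduct.tmul_sum, hef]
  | add g h hg hh =>
    conv_rhs => rw [← hg, ← hh]
    rw [← Finset.sum_add_distrib]
    refine Finset.sum_congr rfl fun i _ => ?_
    rw [map_add, add_smul]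

include hef in
theorem eq_of_forall_bc_eq {g h : S ⊗[R] A} (H : ∀ x : D R A, bc R A S x g = bc R A S x h) :
    g = h := by
  rw [← expand S e f hef g, ← expand S e f hef h]
  exact Finset.sum_congr rfl fun i _ => by rw [H]

include hef in
theorem expand₂ (t : (S ⊗[R] A) ⊗[S] (S ⊗[R] A)) :
    ∑ i, ∑ j, P R A S (fD f i) (fD f j) t •
      (((1 : S) ⊗ₜ[R] e i) ⊗ₜ[S] ((1 : S) ⊗ₜ[R] e j)) = t := by
  induction t using TensorProduct.induction_on with
  | zero => simp
  | tmul m n' =>
    conv_rhs => rw [← expand S e f hef m, ← expand S e f hef n']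
    rw [TensorProduct.sum_tmul]
    refine Finset.sum_congr rfl fun i _ => ?_
    rw [TensorProduct.tmul_sum]
    refine Finset.sum_congr rfl fun j _ => ?_
    rw [P_tmul, TensorProduct.smul_tmul_smul]
  | add t t' ht ht' =>
    conv_rhs => rw [← ht, ← ht']
    rw [← Finset.sum_add_distrib]
    refine Finset.sum_congr rfl fun i _ => ?_
    rw [← Finset.sum_add_distrib]
    refine Finset.sum_congr rfl fun j _ => ?_
    rw [map_add, add_smul]

include hef in
theorem eq_of_forall_P_eq {s t : (S ⊗[R] A) ⊗[S] (S ⊗[R] A)}
    (H : ∀ x y : D R A, P R A S x y s = P R A S x y t) : s = t := by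
  rw [← expand₂ S e f hef s, ← expand₂ S e f hef t]
  exact Finset.sum_congr rfl fun i _ => Finset.sum_congr rfl fun j _ => by rw [H]

include hef in
theorem exists_bc_eq (ψ : D R A →ₗ[R] S) : ∃ g : S ⊗[R] A, ∀ x, bc R A S x g = ψ x := by
  refine ⟨∑ i, ψ (fD f i) ⊗ₜ[R] e i, fun x => ?_⟩
  rw [map_sum]
  conv_rhs => rw [← sum_apply_smul_fD e f hef x, map_sum]
  refine Finset.sum_congr rfl fun i _ => ?_
  rw [bc_tmul, map_smul]

include hef in
theorem isGroupLikeElem_of_bc {g : S ⊗[R] A} (h1 : bc R A S 1 g = 1)
    (hmul : ∀ x y, bc R A S (x * y) g = bc R A S x g * bc R A S y g) :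
    IsGroupLikeElem S g := by
  constructor
  · rw [counit_eq_bc_one]
    exact h1
  · apply eq_of_forall_P_eq S e f hef
    intro x y
    rw [P_comul, P_tmul]
    exact hmul x y

end DualBasis

section Main

variable {R : Type u} [CommRing R] {A : Type u} [CommRing A] [HopfAlgebra R A]
  [Module.Finite R A] [Module.Projective R A]
  (S : Type u) [CommRing S] [Algebra R S]

/-- elements of `S ⊗ A` are separated by the forms coming from the dual -/
theorem eq_of_forall_bc_eq' {g h : S ⊗[R] A} (H : ∀ x : D R A, bc R A S x g = bc R A S x h) :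
    g = h := by
  obtain ⟨n, e, f, hef⟩ := Groth.Agent.Lib.Helper6.Versch.exists_dualBasis R A
  exact eq_of_forall_bc_eq S e f hef H

/-- every algebra map from the dual to `S` is the character of a unique group-like element -/
theorem exists_groupLike_of_algHom (φ : D R A →ₐ[R] S) :
    ∃ g : S ⊗[R] A, IsGroupLikeElem S g ∧ ∀ x, bc R A S x g = φ x := by
  obtain ⟨n, e, f, hef⟩ := Groth.Agent.Lib.Helper6.Versch.exists_dualBasis R A
  obtain ⟨g, hg⟩ := exists_bc_eq S e f hef φ.toLinearMap
  refine ⟨g, isGroupLikeElem_of_bc S e f hef ?_ ?_, hg⟩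
  · rw [hg]
    exact map_one φ
  · intro x y
    rw [hg, hg, hg]
    exact map_mul φ x y

end Main

end Groth.Agent.Lib.Helper6.CartIso
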