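import Mathlib
import Groth.Prelude.Def_SGA3b
import Groth.Prelude.Def_CartDual
import Groth.Agent.Lib.Helper6.CartIso.CD1
import Groth.Agent.Lib.Helper6.Lift.Main
import Groth.Agent.Lib.Helper6.Lift.GLLift
import Groth.Agent.Lib.Helper6.IsoNil.IN1
import Groth.Agent.Lib.Helper6.MultType.Prim

/-!
# Cartier duality and isotriviality, part 2: the dual Hopf algebra of a finite group of
multiplicative type is étale (helper6)
-/

set_option autoImplicit false
set_option linter.unusedSectionVars false
set_option linter.unusedVariables false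
set_option linter.unusedSimpArgs false
set_option linter.style.haveILetI false
set_option linter.overlappingInstances false
set_option maxHeartbeats 800000
set_option synthInstance.maxHeartbeats 400000

universe u
open TensorProduct Coalgebra CartDual SGA3b
open Groth.Agent.Lib.Helper6.MultType Groth.Agent.Lib.Helper6.Lift

namespace Groth.Agent.Lib.Helper6.CartIso

section Etale

variable {R : Type u} [CommRing R] {A : Type u} [CommRing A] [HopfAlgebra R A]
  [Coalgebra.IsCocomm R A] [Module.Finite R A] [Module.Projective R A]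

theorem formallyEtale_dual (hA : IsMultType R A) : Algebra.FormallyEtale R (D R A) := by
  rw [Algebra.FormallyEtale.iff_comp_bijective]
  intro S _ _ I₀ hI₀
  have hnil : ∀ x ∈ I₀, IsNilpotent x := by
    intro x hx
    refine ⟨2, ?_⟩
    have h : x ^ 2 ∈ I₀ ^ 2 := Ideal.pow_mem_pow hx 2
    rw [hI₀] at h
    exact h
  have hMT : IsMultType S (S ⊗[R] A) := Groth.Agent.Lib.Helper6.IsoNil.IsMultType.baseChange hA S
  obtain ⟨n, e, f, hef⟩ := Groth.Agent.Lib.Helper6.Versch.exists_dualBasis R A
  have hmem : ∀ z : S ⊗[R] A, (∀ i, bc R A S (fD f i) z ∈ I₀) →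
      z ∈ Ideal.map (algebraMap S (S ⊗[R] A)) I₀ := by
    intro z hz
    rw [← expand S e f hef z]
    refine Ideal.sum_mem _ fun i _ => ?_
    rw [Algebra.smul_def]
    exact Ideal.mul_mem_right _ _ (Ideal.mem_map_of_mem _ (hz i))
  constructor
  · intro φ φ' hφ
    obtain ⟨g, hg, hgφ⟩ := exists_groupLike_of_algHom S φ
    obtain ⟨g', hg', hgφ'⟩ := exists_groupLike_of_algHom S φ'
    have hd : g - g' ∈ Ideal.map (algebraMap S (S ⊗[R] A)) I₀ := by
      apply hmem
      intro i
      rw [map_sub, hgφ, hgφ']
      have h := congrArg (fun ψ : D R A →ₐ[R] S ⧸ I₀ => ψ (fD f i)) hφ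
      exact (Ideal.Quotient.eq (I := I₀)).mp h
    have heq := groupLike_eq_of_nil_multType hMT I₀ hnil hg hg' hd
    apply AlgHom.ext
    intro x
    rw [← hgφ, ← hgφ', heq]
  · intro φbar
    choose s hs using fun i => Ideal.Quotient.mk_surjective (φbar (fD f i))
    obtain ⟨y, hy⟩ : ∃ y : S ⊗[R] A, y = ∑ i, s i ⊗ₜ[R] e i := ⟨_, rfl⟩
    have hyx : ∀ x : D R A, Ideal.Quotient.mk I₀ (bc R A S x y) = φbar x := by
      intro x
      rw [hy, map_sum, map_sum]
      conv_rhs => rw [← sum_apply_smul_fD e f hef x, map_sum]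
      refine Finset.sum_congr rfl fun i _ => ?_
      rw [bc_tmul, map_smul φbar, ← hs i]
      show Ideal.Quotient.mk I₀ (x (e i) • s i) = x (e i) • Ideal.Quotient.mk I₀ (s i)
      rw [Algebra.smul_def, Algebra.smul_def, map_mul]
      rfl
    have hGL : GLMod I₀ y := by
      refine ⟨?_, ?_⟩
      · rw [← expand₂ S e f hef (comul (R := S) y - y ⊗ₜ[S] y)]
        refine Ideal.sum_mem _ fun i _ => Ideal.sum_mem _ fun j _ => ?_
        have hsm : ∀ (c : S) (z : (S ⊗[R] A) ⊗[S] (S ⊗[R] A)),
            c • z = algebraMap S ((S ⊗[R] A) ⊗[S] (S ⊗[R] A)) c * z :=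
          fun c z => Algebra.smul_def c z
        rw [hsm]
        refine Ideal.mul_mem_right _ _ (Ideal.mem_map_of_mem _ ?_)
        rw [map_sub, P_comul, P_tmul, ← Ideal.Quotient.eq, map_mul, hyx, hyx, hyx, map_mul]
      · rw [counit_eq_bc_one, ← Ideal.Quotient.eq, hyx, map_one, map_one]
    obtain ⟨g, hg, hgd⟩ := exists_groupLike_lift hMT I₀ hnil hGL
    refine ⟨charOf hg, ?_⟩
    apply AlgHom.ext
    intro x
    show Ideal.Quotient.mk I₀ (bc R A S x g) = φbar x
    rw [← hyx x, Ideal.Quotient.eq, ← map_sub]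
    exact linearMap_mem_of_mem_map S I₀ (bc R A S x) hgd

/-- The dual Hopf algebra of a finite group of multiplicative type is étale. -/
theorem etale_dual (hA : IsMultType R A) : Algebra.Etale R (D R A) where
  formallyEtale := formallyEtale_dual hA
  finitePresentation := by
    haveI : Module.FinitePresentation R (D R A) := Module.finitePresentation_of_projective R (D R A)
    exact Algebra.FinitePresentation.of_finitePresentation R (D R A)

end Etale

end Groth.Agent.Lib.Helper6.CartIso
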