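import Mathlib
import Groth.Prelude.Def_SGA3b
import Groth.Prelude.Def_CartDual
import Groth.Agent.Lib.Helper6.CartIso.CD1

/-!
# Cartier duality and isotriviality, part 3: a splitting `T ⊗ D(A) ≃ T^m` of the dual algebra gives
`m` characters of `T ⊗ A` which form a basis; coefficients of group-like elements in this basis
(helper6)
-/

set_option autoImplicit false
set_option linter.unusedSectionVars false
set_option linter.unusedVariables false
set_option linter.unusedSimpArgs false
set_option linter.style.haveILetI false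
set_option linter.overlappingInstances false
set_option maxHeartbeats 800000
set_option synthInstance.maxHeartbeats 400000

universe u
open TensorProduct Coalgebra CartDual SGA3b

namespace Groth.Agent.Lib.Helper6.CartIso

section Split

variable {R : Type u} [CommRing R] {A : Type u} [CommRing A] [HopfAlgebra R A]
  [Coalgebra.IsCocomm R A] [Module.Finite R A] [Module.Projective R A]
variable (T : Type u) [CommRing T] [Algebra R T] {m : ℕ}

/-- the `T`-bilinear pairing between `T ⊗ A` and `T ⊗ D(A)` -/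
noncomputable def pairT (g : T ⊗[R] A) : T ⊗[R] D R A →ₗ[T] T :=
  LinearMap.liftBaseChange T (pairL R A T g)

lemma pairT_tmul (g : T ⊗[R] A) (t : T) (x : D R A) :
    pairT T g (t ⊗ₜ[R] x) = t * bc R A T x g := by
  simp [pairT, pairL_apply]

lemma pairT_add (g h : T ⊗[R] A) : pairT T (g + h) = pairT T g + pairT T h := by
  apply LinearMap.ext
  intro z
  induction z using TensorProduct.induction_on with
  | zero => simp
  | tmul t x =>
    rw [LinearMap.add_apply, pairT_tmul, pairT_tmul, pairT_tmul, map_add, mul_add]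
  | add z w hz hw => rw [map_add, map_add, hz, hw]

lemma pairT_smul (s : T) (g : T ⊗[R] A) : pairT T (s • g) = s • pairT T g := by
  apply LinearMap.ext
  intro z
  induction z using TensorProduct.induction_on with
  | zero => simp
  | tmul t x =>
    rw [LinearMap.smul_apply, pairT_tmul, pairT_tmul, map_smul, smul_eq_mul, smul_eq_mul]
    ring
  | add z w hz hw => rw [map_add, map_add, hz, hw]

variable (ε : T ⊗[R] D R A ≃ₐ[T] (Fin m → T))

/-- the coordinate functionals attached to a splitting of the dual -/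
noncomputable def coord (i : Fin m) : T ⊗[R] A →ₗ[T] T where
  toFun g := pairT T g (ε.symm (Pi.single i 1))
  map_add' g h := by rw [pairT_add, LinearMap.add_apply]
  map_smul' s g := by rw [pairT_smul, LinearMap.smul_apply, RingHom.id_apply]

lemma coord_apply (i : Fin m) (g : T ⊗[R] A) :
    coord T ε i g = pairT T g (ε.symm (Pi.single i 1)) := rfl

/-- the points of the dual attached to a splitting -/
noncomputable def pChar (i : Fin m) : D R A →ₐ[R] T :=
  ((Pi.evalAlgHom T (fun _ : Fin m => T) i).restrictScalars R).comp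
    ((ε.toAlgHom.restrictScalars R).comp Algebra.TensorProduct.includeRight)

lemma pChar_apply (i : Fin m) (x : D R A) : pChar T ε i x = ε ((1 : T) ⊗ₜ[R] x) i := rfl

/-- the characters attached to a splitting -/
theorem exists_chars : ∃ χ : Fin m → T ⊗[R] A, (∀ i, IsGroupLikeElem T (χ i)) ∧
    ∀ i x, bc R A T x (χ i) = ε ((1 : T) ⊗ₜ[R] x) i := by
  choose χ h1 h2 using fun i => exists_groupLike_of_algHom T (pChar T ε i)
  exact ⟨χ, h1, fun i x => (h2 i x).trans (pChar_apply T ε i x)⟩

variable {T ε}
variable {χ : Fin m → T ⊗[R] A} (hχgl : ∀ i, IsGroupLikeElem T (χ i))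
  (hχ : ∀ i x, bc R A T x (χ i) = ε ((1 : T) ⊗ₜ[R] x) i)

include hχ in
lemma pairT_char (j : Fin m) (z : T ⊗[R] D R A) : pairT T (χ j) z = ε z j := by
  induction z using TensorProduct.induction_on with
  | zero => simp
  | tmul t x =>
    have h1 : (t ⊗ₜ[R] x : T ⊗[R] D R A) = t • ((1 : T) ⊗ₜ[R] x) := by
      rw [TensorProduct.smul_tmul', smul_eq_mul, mul_one]
    rw [pairT_tmul, hχ, h1, map_smul, Pi.smul_apply, smul_eq_mul]
  | add z w hz hw => rw [map_add, map_add, Pi.add_apply, hz, hw]

include hχ in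
lemma coord_char (i j : Fin m) : coord T ε i (χ j) = if i = j then 1 else 0 := by
  rw [coord_apply, pairT_char hχ, AlgEquiv.apply_symm_apply, Pi.single_apply]
  by_cases h : i = j
  · rw [if_pos h, if_pos h.symm]
  · rw [if_neg h, if_neg (fun h' => h h'.symm)]

lemma pi_eq_sum_single (v : Fin m → T) : v = ∑ i, v i • (Pi.single i (1 : T) : Fin m → T) := by
  funext j
  rw [Finset.sum_apply, Finset.sum_eq_single j]
  · simp
  · intro i _ hij
    simp [Pi.single_apply, hij.symm]
  · intro h
    exact absurd (Finset.mem_univ j) h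

include hχ in
theorem sum_coord_smul_char (g : T ⊗[R] A) : ∑ i, coord T ε i g • χ i = g := by
  apply eq_of_forall_bc_eq' T
  intro x
  rw [map_sum]
  have h1 : bc R A T x g = pairT T g (ε.symm (ε ((1 : T) ⊗ₜ[R] x))) := by
    rw [AlgEquiv.symm_apply_apply, pairT_tmul, one_mul]
  rw [h1]
  conv_rhs => rw [pi_eq_sum_single (ε ((1 : T) ⊗ₜ[R] x)), map_sum, map_sum]
  refine Finset.sum_congr rfl fun i _ => ?_
  rw [map_smul, map_smul, map_smul, hχ, smul_eq_mul, smul_eq_mul, ← coord_apply, mul_comm]

include hχgl hχ in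
theorem coord_mul_coord {g : T ⊗[R] A} (hg : IsGroupLikeElem T g) (i j : Fin m) :
    coord T ε i g * coord T ε j g = if i = j then coord T ε i g else 0 := by
  obtain ⟨Q, hQ⟩ : ∃ Q : (T ⊗[R] A) ⊗[T] (T ⊗[R] A) →ₗ[T] T,
      Q = LinearMap.mul' T T ∘ₗ TensorProduct.map (coord T ε i) (coord T ε j) := ⟨_, rfl⟩
  have hQt : ∀ y z : T ⊗[R] A, Q (y ⊗ₜ[T] z) = coord T ε i y * coord T ε j z := by
    intro y z
    rw [hQ]
    simp
  have hsum : comul (R := T) g = ∑ k, coord T ε k g • (χ k ⊗ₜ[T] χ k) := by
    conv_lhs => rw [← sum_coord_smul_char hχ g, map_sum]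
    refine Finset.sum_congr rfl fun k _ => ?_
    rw [map_smul, (hχgl k).comul_eq_tmul_self]
  have h1 : Q (comul (R := T) g) = coord T ε i g * coord T ε j g := by
    rw [hg.comul_eq_tmul_self, hQt]
  rw [← h1, hsum, map_sum]
  have h2 : ∀ k, Q (coord T ε k g • (χ k ⊗ₜ[T] χ k)) =
      if k = i then (if i = j then coord T ε i g else 0) else 0 := by
    intro k
    rw [map_smul, hQt, coord_char hχ, coord_char hχ, smul_eq_mul]
    by_cases hki : k = i
    · subst hki
      rw [if_pos rfl, if_pos rfl]
      by_cases hkj : k = j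
      · subst hkj
        rw [if_pos rfl, if_pos rfl]
        ring
      · rw [if_neg (fun h : j = k => hkj h.symm), if_neg hkj]
        ring
    · rw [if_neg (fun h : i = k => hki h.symm), if_neg hki]
      ring
  rw [Finset.sum_congr rfl fun k _ => h2 k, Finset.sum_ite_eq' Finset.univ i]
  simp

include hχgl hχ in
theorem sum_coord {g : T ⊗[R] A} (hg : IsGroupLikeElem T g) : ∑ i, coord T ε i g = 1 := by
  have e := congrArg (counit (R := T)) (sum_coord_smul_char hχ g)
  rw [hg.counit_eq_one, map_sum] at e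
  rw [← e]
  refine Finset.sum_congr rfl fun i _ => ?_
  rw [map_smul, (hχgl i).counit_eq_one, smul_eq_mul, mul_one]

include hχgl hχ in
/-- a non-zero piece of `Spec T` over which the characters are closed under multiplication -/
theorem exists_piece [Nontrivial T] :
    ∃ (E : T) (c : Fin m → Fin m → Fin m), IsIdempotentElem E ∧ E ≠ 0 ∧
      (∀ i j, E * coord T ε (c i j) (χ i * χ j) = E) ∧
      (∀ i j k, k ≠ c i j → E * coord T ε k (χ i * χ j) = 0) := by
  classical
  obtain ⟨𝔮, h𝔮⟩ := Ideal.exists_maximal T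
  haveI := h𝔮.isPrime
  have hgl : ∀ i j, IsGroupLikeElem T (χ i * χ j) := fun i j => (hχgl i).mul (hχgl j)
  have hex : ∀ i j, ∃ k, coord T ε k (χ i * χ j) ∉ 𝔮 := by
    intro i j
    by_contra hcon
    push Not at hcon
    have h1 : ∑ k, coord T ε k (χ i * χ j) ∈ 𝔮 := Ideal.sum_mem _ fun k _ => hcon k
    rw [sum_coord hχgl hχ (hgl i j)] at h1
    exact h𝔮.ne_top ((Ideal.eq_top_iff_one _).mpr h1)
  choose c hc using hex
  obtain ⟨F, hF⟩ : ∃ F : Fin m × Fin m → T,
      F = fun p => coord T ε (c p.1 p.2) (χ p.1 * χ p.2) := ⟨_, rfl⟩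
  have hFidem : ∀ p, F p * F p = F p := by
    intro p
    rw [hF]
    have := coord_mul_coord hχgl hχ (hgl p.1 p.2) (c p.1 p.2) (c p.1 p.2)
    rw [if_pos rfl] at this
    exact this
  have hEidem : (∏ p, F p) * (∏ p, F p) = ∏ p, F p := by
    rw [← Finset.prod_mul_distrib]
    exact Finset.prod_congr rfl fun p _ => hFidem p
  have hEF : ∀ p, (∏ q, F q) * F p = ∏ q, F q := by
    intro p
    rw [← Finset.mul_prod_erase Finset.univ F (Finset.mem_univ p)]
    calc (F p * ∏ x ∈ Finset.univ.erase p, F x) * F p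
        = (F p * F p) * ∏ x ∈ Finset.univ.erase p, F x := by ring
      _ = F p * ∏ x ∈ Finset.univ.erase p, F x := by rw [hFidem]
  refine ⟨∏ p, F p, c, hEidem, ?_, ?_, ?_⟩
  · intro h0
    have h1 : ∏ p, F p ∈ 𝔮 := by rw [h0]; exact 𝔮.zero_mem
    obtain ⟨p, -, hp⟩ := (Ideal.IsPrime.prod_mem_iff).mp h1
    rw [hF] at hp
    exact hc p.1 p.2 hp
  · intro i j
    have := hEF (i, j)
    rw [hF] at this ⊢
    exact this
  · intro i j k hk
    have h1 := hEF (i, j)
    have h2 := coord_mul_coord hχgl hχ (hgl i j) (c i j) k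
    rw [if_neg (fun h => hk h.symm)] at h2
    rw [← h1, mul_assoc]
    have h3 : F (i, j) * coord T ε k (χ i * χ j) = 0 := by
      rw [hF]
      exact h2
    rw [h3, mul_zero]

end Split

end Groth.Agent.Lib.Helper6.CartIso
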