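import Mathlib
import Groth.Prelude.Def_SGA3b
import Groth.Prelude.Def_CartDual
import Groth.Agent.Lib.Helper6.CartIso.CD3
import Groth.Agent.Lib.Helper6.QIso.QI8

/-!
# Cartier duality and isotriviality, part 4: over a piece of `Spec T` where the characters attached
to a splitting of the dual are closed under multiplication, the group is diagonalisable; over a
connected base a finite commutative group with étale dual is isotrivial (helper6)
-/

set_option autoImplicit false
set_option linter.unusedSectionVars false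
set_option linter.unusedVariables false
set_option linter.unusedSimpArgs false
set_option linter.style.haveILetI false
set_option linter.overlappingInstances false
set_option maxHeartbeats 800000
set_option synthInstance.maxHeartbeats 400000

universe u
open TensorProduct Coalgebra CartDual SGA3b
open Groth.Agent.Lib.Helper6.MultType Groth.Agent.Lib.Helper6.Isotriv
open Groth.Agent.Lib.Helper6.QIso

namespace Groth.Agent.Lib.Helper6.CartIso

/-- the piece of `Spec T` cut out by an idempotent -/
abbrev Piece {T : Type u} [CommRing T] (E : T) : Type u := T ⧸ Ideal.span {(1 : T) - E}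

section PieceRing

variable {T : Type u} [CommRing T] {E : T}

lemma piece_E : algebraMap T (Piece E) E = 1 := by
  show Ideal.Quotient.mk _ E = 1
  rw [← map_one (Ideal.Quotient.mk (Ideal.span {(1 : T) - E})), Ideal.Quotient.eq]
  have h : E - 1 = -((1 : T) - E) := by ring
  rw [h]
  exact neg_mem (Ideal.subset_span (Set.mem_singleton _))

lemma piece_eq_one {a : T} (h : E * a = E) : algebraMap T (Piece E) a = 1 := by
  have h1 := congrArg (algebraMap T (Piece E)) h
  rw [map_mul, piece_E, one_mul] at h1
  exact h1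

lemma piece_eq_zero {a : T} (h : E * a = 0) : algebraMap T (Piece E) a = 0 := by
  have h1 := congrArg (algebraMap T (Piece E)) h
  rw [map_mul, piece_E, one_mul, map_zero] at h1
  exact h1

lemma piece_nontrivial (hE : IsIdempotentElem E) (hE0 : E ≠ 0) : Nontrivial (Piece E) := by
  rw [Ideal.Quotient.nontrivial_iff]
  intro htop
  have h1 : (1 : T) ∈ Ideal.span {(1 : T) - E} := by rw [htop]; trivial
  obtain ⟨t, ht⟩ := Ideal.mem_span_singleton'.mp h1
  apply hE0
  have h2 : E * E = E := hE
  calc E = E * 1 := (mul_one E).symm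
    _ = E * (t * (1 - E)) := by rw [ht]
    _ = t * (E - E * E) := by ring
    _ = 0 := by rw [h2, sub_self, mul_zero]

end PieceRing

section CharBasis

variable {S : Type u} [CommRing S] [Nontrivial S] {X : Type u} [CommRing X] [HopfAlgebra S X]
variable {m : ℕ} (χ' : Fin m → X) (hgl : ∀ i, IsGroupLikeElem S (χ' i))
  (l' : Fin m → X →ₗ[S] S) (hcoord : ∀ i j, l' i (χ' j) = if i = j then 1 else 0)
  (c : Fin m → Fin m → Fin m) (hmul : ∀ i j, χ' i * χ' j = χ' (c i j))
  (hspan : ∀ y : X, y ∈ Submodule.span S (Set.range χ'))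

/-- the characters as elements of the group of group-like elements -/
def chiG (i : Fin m) : GroupLike S X := ⟨χ' i, hgl i⟩

include hmul in
lemma chiG_mul (i j : Fin m) : chiG χ' hgl i * chiG χ' hgl j = chiG χ' hgl (c i j) :=
  GroupLike.val_injective (hmul i j)

include hcoord in
lemma chiG_injective : Function.Injective (chiG χ' hgl) := by
  intro i j hij
  by_contra hne
  have h1 := hcoord i i
  have h2 := hcoord i j
  rw [if_pos rfl] at h1
  have h3 : χ' i = χ' j := congrArg GroupLike.val hij
  rw [if_neg hne, ← h3, h1] at h2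
  exact one_ne_zero h2

include hgl hcoord hmul in
lemma c_surjective (i : Fin m) : Function.Surjective (fun j => c i j) := by
  apply Finite.injective_iff_surjective.mp
  intro j j' hjj
  apply chiG_injective χ' hgl l' hcoord
  have h1 : chiG χ' hgl i * chiG χ' hgl j = chiG χ' hgl i * chiG χ' hgl j' := by
    rw [chiG_mul χ' hgl c hmul, chiG_mul χ' hgl c hmul]
    exact congrArg (chiG χ' hgl) hjj
  have h2 := congrArg (fun x => (chiG χ' hgl i)⁻¹ * x) h1
  simpa using h2

include hcoord hmul hspan in
lemma exists_chiG_eq_one : ∃ j₁, chiG χ' hgl j₁ = 1 := by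
  haveI : Nontrivial X := (Bialgebra.counitAlgHom S X).toRingHom.domain_nontrivial
  have hm : Nonempty (Fin m) := by
    by_contra hemp
    rw [not_nonempty_iff] at hemp
    have h1 := hspan 1
    have h2 : Set.range χ' = ∅ := Set.range_eq_empty χ'
    rw [h2, Submodule.span_empty, Submodule.mem_bot] at h1
    exact one_ne_zero h1
  obtain ⟨i₀⟩ := hm
  obtain ⟨j, hj⟩ := c_surjective χ' hgl l' hcoord c hmul i₀ i₀
  refine ⟨j, ?_⟩
  have h1 : chiG χ' hgl i₀ * chiG χ' hgl j = chiG χ' hgl i₀ := by
    rw [chiG_mul χ' hgl c hmul]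
    exact congrArg (chiG χ' hgl) hj
  have h2 := congrArg (fun x => (chiG χ' hgl i₀)⁻¹ * x) h1
  simpa using h2

include hcoord hmul hspan in
/-- the characters form a subgroup of the group of group-like elements -/
lemma exists_subgroup : ∃ M : Subgroup (GroupLike S X), ∀ g, g ∈ M ↔ ∃ i, chiG χ' hgl i = g := by
  obtain ⟨j₁, hj₁⟩ := exists_chiG_eq_one χ' hgl l' hcoord c hmul hspan
  refine ⟨{ carrier := Set.range (chiG χ' hgl)
            mul_mem' := ?_
            one_mem' := ⟨j₁, hj₁⟩
            inv_mem' := ?_ }, fun g => Iff.rfl⟩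
  · rintro _ _ ⟨i, rfl⟩ ⟨j, rfl⟩
    exact ⟨c i j, (chiG_mul χ' hgl c hmul i j).symm⟩
  · rintro _ ⟨i, rfl⟩
    obtain ⟨j, hj⟩ := c_surjective χ' hgl l' hcoord c hmul i j₁
    refine ⟨j, eq_inv_of_mul_eq_one_right ?_⟩
    rw [chiG_mul χ' hgl c hmul, ← hj₁]
    exact congrArg (chiG χ' hgl) hj

include hgl hcoord hmul hspan in
/-- A Hopf algebra with a basis of group-like elements closed under multiplication is
diagonalisable. -/
theorem isDiag_of_char_basis : IsDiag S X := by
  classical
  obtain ⟨M, hM⟩ := exists_subgroup χ' hgl l' hcoord c hmul hspan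
  have hMmem : ∀ μ : M, ∃ i, chiG χ' hgl i = μ.1 := fun μ => (hM μ.1).mp μ.2
  choose idx hidx using hMmem
  have hidx_inj : ∀ μ μ' : M, idx μ = idx μ' → μ = μ' := by
    intro μ μ' h
    apply Subtype.ext
    rw [← hidx μ, ← hidx μ', h]
  obtain ⟨Ψ, hΨ⟩ : ∃ Ψ : MonoidAlgebra S M →ₐc[S] X,
      Ψ = (MonoidAlgebra.liftGroupLikeBialgHom (R := S) (A := X)).comp
        (MonoidAlgebra.mapDomainBialgHom S M.subtype) := ⟨_, rfl⟩
  have hΨs : ∀ (μ : M) (t : S), Ψ (MonoidAlgebra.single μ t) = t • χ' (idx μ) := by
    intro μ t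
    have h1 : χ' (idx μ) = μ.1.val := congrArg GroupLike.val (hidx μ)
    rw [hΨ, h1]
    simp [MonoidAlgebra.liftGroupLikeBialgHom, Algebra.smul_def]
  have hΨsurj : Function.Surjective Ψ := by
    intro y
    have h1 : Submodule.span S (Set.range χ') ≤
        LinearMap.range ((Ψ : MonoidAlgebra S M →ₐ[S] X).toLinearMap) := by
      rw [Submodule.span_le]
      rintro _ ⟨i, rfl⟩
      refine ⟨MonoidAlgebra.single ⟨chiG χ' hgl i, (hM _).mpr ⟨i, rfl⟩⟩ 1, ?_⟩
      show Ψ (MonoidAlgebra.single ⟨chiG χ' hgl i, (hM _).mpr ⟨i, rfl⟩⟩ 1) = χ' i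
      rw [hΨs, one_smul]
      congr 1
      apply chiG_injective χ' hgl l' hcoord
      exact hidx _
    obtain ⟨z, hz⟩ := h1 (hspan y)
    exact ⟨z, hz⟩
  have hcoeff : ∀ (μ₀ : M) (z : MonoidAlgebra S M), l' (idx μ₀) (Ψ z) = z.coeff μ₀ := by
    intro μ₀ z
    induction z using MonoidAlgebra.induction_linear with
    | zero => simp
    | add a b ha hb => rw [map_add, map_add, ha, hb, MonoidAlgebra.coeff_add, Finsupp.add_apply]
    | single μ t =>
      rw [hΨs, map_smul, hcoord, MonoidAlgebra.coeff_single, Finsupp.single_apply, smul_eq_mul]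
      by_cases h : μ = μ₀
      · subst h
        rw [if_pos rfl, if_pos rfl, mul_one]
      · rw [if_neg h, if_neg (fun h' => h (hidx_inj _ _ h').symm), mul_zero]
  have hΨinj : Function.Injective Ψ := by
    intro z z' hzz
    apply MonoidAlgebra.coeff_injective
    ext μ₀
    rw [← hcoeff μ₀ z, ← hcoeff μ₀ z', hzz]
  exact ⟨M, inferInstance, ⟨(BialgEquiv.ofBijective Ψ ⟨hΨinj, hΨsurj⟩).symm⟩⟩

end CharBasis

section PieceDiag

variable {R : Type u} [CommRing R] {A : Type u} [CommRing A] [HopfAlgebra R A]
  [Coalgebra.IsCocomm R A] [Module.Finite R A] [Module.Projective R A]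
variable {T : Type u} [CommRing T] [Algebra R T] {m : ℕ}
  {ε : T ⊗[R] D R A ≃ₐ[T] (Fin m → T)}
variable {χ : Fin m → T ⊗[R] A} (hχgl : ∀ i, IsGroupLikeElem T (χ i))
  (hχ : ∀ i x, bc R A T x (χ i) = ε ((1 : T) ⊗ₜ[R] x) i)
variable {E : T} {c : Fin m → Fin m → Fin m}

/-- the map to the piece -/
noncomputable def toPiece (E : T) : T →ₐ[R] Piece E := IsScalarTower.toAlgHom R T (Piece E)

lemma toPiece_apply (t : T) : toPiece (R := R) E t = algebraMap T (Piece E) t := rfl

/-- base change of the coordinate functionals to the piece -/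
noncomputable def coord' (ε : T ⊗[R] D R A ≃ₐ[T] (Fin m → T)) (E : T) (i : Fin m) :
    Piece E ⊗[R] A →ₗ[Piece E] Piece E :=
  (TensorProduct.AlgebraTensorModule.rid T (Piece E) (Piece E)).toLinearMap ∘ₗ
    (LinearMap.baseChange (Piece E) (coord T ε i)) ∘ₗ
      (Algebra.TensorProduct.cancelBaseChange R T (Piece E) (Piece E) A).symm.toLinearEquiv.toLinearMap

lemma cancel_one_tmul' (g : T ⊗[R] A) :
    Algebra.TensorProduct.cancelBaseChange R T (Piece E) (Piece E) A ((1 : Piece E) ⊗ₜ[T] g) =
      push A (toPiece (R := R) E) g := by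
  induction g using TensorProduct.induction_on with
  | zero => simp
  | tmul t a =>
    rw [Algebra.TensorProduct.cancelBaseChange_tmul, push_tmul, toPiece_apply, Algebra.smul_def,
      mul_one]
  | add g h hg hh => rw [TensorProduct.tmul_add, map_add, hg, hh, map_add]

lemma coord'_push (i : Fin m) (g : T ⊗[R] A) :
    coord' ε E i (push A (toPiece (R := R) E) g) = algebraMap T (Piece E) (coord T ε i g) := by
  have h1 : (Algebra.TensorProduct.cancelBaseChange R T (Piece E) (Piece E) A).symm
      (push A (toPiece (R := R) E) g) = (1 : Piece E) ⊗ₜ[T] g := by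
    rw [AlgEquiv.symm_apply_eq]
    exact (cancel_one_tmul' g).symm
  show (TensorProduct.AlgebraTensorModule.rid T (Piece E) (Piece E))
    ((LinearMap.baseChange (Piece E) (coord T ε i))
      ((Algebra.TensorProduct.cancelBaseChange R T (Piece E) (Piece E) A).symm
        (push A (toPiece (R := R) E) g))) = _
  rw [h1, LinearMap.baseChange_tmul, TensorProduct.AlgebraTensorModule.rid_tmul, Algebra.smul_def,
    mul_one]

include hχ in
lemma push_eq_sum (g : T ⊗[R] A) :
    push A (toPiece (R := R) E) g =
      ∑ k, algebraMap T (Piece E) (coord T ε k g) • push A (toPiece (R := R) E) (χ k) := by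
  conv_lhs => rw [← sum_coord_smul_char hχ g, map_sum]
  refine Finset.sum_congr rfl fun k _ => ?_
  rw [push_smul, toPiece_apply]

include hχ in
lemma coord'_char (i j : Fin m) :
    coord' ε E i (push A (toPiece (R := R) E) (χ j)) = if i = j then 1 else 0 := by
  rw [coord'_push, coord_char hχ]
  by_cases h : i = j
  · rw [if_pos h, if_pos h, map_one]
  · rw [if_neg h, if_neg h, map_zero]

include hχ in
lemma char_mul (hc1 : ∀ i j, E * coord T ε (c i j) (χ i * χ j) = E)
    (hc2 : ∀ i j k, k ≠ c i j → E * coord T ε k (χ i * χ j) = 0) (i j : Fin m) :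
    push A (toPiece (R := R) E) (χ i) * push A (toPiece (R := R) E) (χ j) =
      push A (toPiece (R := R) E) (χ (c i j)) := by
  rw [← map_mul, push_eq_sum hχ (χ i * χ j), Finset.sum_eq_single (c i j)]
  · rw [piece_eq_one (hc1 i j), one_smul]
  · intro k _ hk
    rw [piece_eq_zero (hc2 i j k hk), zero_smul]
  · intro h
    exact absurd (Finset.mem_univ _) h

include hχ in
lemma span_char (y : Piece E ⊗[R] A) :
    y ∈ Submodule.span (Piece E) (Set.range fun k => push A (toPiece (R := R) E) (χ k)) := by
  induction y using TensorProduct.induction_on with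
  | zero => exact Submodule.zero_mem _
  | tmul s a =>
    have h1 : (s ⊗ₜ[R] a : Piece E ⊗[R] A) = s • push A (toPiece (R := R) E) ((1 : T) ⊗ₜ[R] a) := by
      rw [push_tmul, map_one, TensorProduct.smul_tmul', smul_eq_mul, mul_one]
    rw [h1, push_eq_sum hχ]
    refine Submodule.smul_mem _ _ (Submodule.sum_mem _ fun k _ => ?_)
    exact Submodule.smul_mem _ _ (Submodule.subset_span ⟨k, rfl⟩)
  | add y z hy hz => exact Submodule.add_mem _ hy hz

include hχgl hχ in
/-- over the piece, the group is diagonalisable -/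
theorem isDiag_piece (hE : IsIdempotentElem E) (hE0 : E ≠ 0)
    (hc1 : ∀ i j, E * coord T ε (c i j) (χ i * χ j) = E)
    (hc2 : ∀ i j k, k ≠ c i j → E * coord T ε k (χ i * χ j) = 0) :
    IsDiag (Piece E) (Piece E ⊗[R] A) := by
  haveI : Nontrivial (Piece E) := piece_nontrivial hE hE0
  exact isDiag_of_char_basis (fun k => push A (toPiece (R := R) E) (χ k))
    (fun i => push_groupLike A (toPiece (R := R) E) (hχgl i)) (coord' ε E)
    (fun i j => coord'_char hχ i j) c (fun i j => char_mul hχ hc1 hc2 i j)
    (fun y => span_char hχ y)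

end PieceDiag

section Connected

/-- a non-zero finite étale algebra over a ring with connected spectrum is faithfully flat -/
theorem faithfullyFlat_of_connected (R T' : Type u) [CommRing R] [CommRing T'] [Algebra R T']
    [ConnectedSpace (PrimeSpectrum R)] [Algebra.Etale R T'] [Module.Finite R T'] [Nontrivial T'] :
    Module.FaithfullyFlat R T' := by
  haveI : Module.Flat R T' := inferInstance
  apply Module.FaithfullyFlat.of_comap_surjective
  have hopen : IsOpenMap (PrimeSpectrum.comap (algebraMap R T')) :=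
    PrimeSpectrum.isOpenMap_comap_of_hasGoingDown_of_finitePresentation
  have hclosed : IsClosedMap (PrimeSpectrum.comap (algebraMap R T')) :=
    PrimeSpectrum.isClosedMap_comap_of_isIntegral _ (algebraMap_isIntegral_iff.mpr inferInstance)
  have hclopen : IsClopen (Set.range (PrimeSpectrum.comap (algebraMap R T'))) :=
    ⟨hclosed.isClosed_range, hopen.isOpen_range⟩
  rcases isClopen_iff.mp hclopen with h | h
  · exfalso
    obtain ⟨q⟩ := (inferInstance : Nonempty (PrimeSpectrum T'))
    have h1 : PrimeSpectrum.comap (algebraMap R T') q ∈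
        Set.range (PrimeSpectrum.comap (algebraMap R T')) := ⟨q, rfl⟩
    rw [h] at h1
    exact h1
  · exact Set.range_eq_univ.mp h

variable {R : Type u} [CommRing R] {A : Type u} [CommRing A] [HopfAlgebra R A]
  [Coalgebra.IsCocomm R A] [Module.Finite R A] [Module.Projective R A]

/-- Over a ring with connected spectrum, a finite locally free commutative group scheme whose
Cartier dual is étale is isotrivial. -/
theorem isIsotrivial_of_etale_dual [ConnectedSpace (PrimeSpectrum R)]
    (hE : Algebra.Etale R (D R A)) : IsIsotrivial R A := by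
  haveI := hE
  haveI : Nontrivial R := PrimeSpectrum.nonempty_iff_nontrivial.mp inferInstance
  haveI : Module.FinitePresentation R (D R A) := Module.finitePresentation_of_projective R (D R A)
  have hlc := Module.isLocallyConstant_rankAtStalk (R := R) (M := D R A)
  obtain ⟨n, hn⟩ := hlc.exists_eq_const
  have hn' : Module.rankAtStalk (R := R) (D R A) = (n : PrimeSpectrum R → ℕ) := by
    rw [hn]
    rfl
  obtain ⟨T, _, _, hff, hfin, het, hsplit⟩ :=
    Algebra.IsFiniteSplit.exists_tensorProduct_of_etale hn'
  haveI := hff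
  haveI := hfin
  haveI := het
  obtain ⟨m, ⟨ε⟩⟩ := hsplit.1
  haveI : Nontrivial T := (FaithfulSMul.algebraMap_injective R T).nontrivial
  obtain ⟨χ, hχgl, hχ⟩ := exists_chars T ε
  obtain ⟨E, c, hEi, hE0, hc1, hc2⟩ := exists_piece hχgl hχ
  haveI : Nontrivial (Piece E) := piece_nontrivial hEi hE0
  haveI : IsLocalization.Away E (Piece E) := IsLocalization.Away.quotient_of_isIdempotentElem hEi
  haveI : Algebra.Etale T (Piece E) := Algebra.Etale.of_isLocalizationAway E
  haveI : Algebra.Etale R (Piece E) := Algebra.Etale.comp R T (Piece E)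
  haveI : Module.Finite T (Piece E) :=
    Module.Finite.of_surjective (Algebra.linearMap T (Piece E)) Ideal.Quotient.mk_surjective
  haveI : Module.Finite R (Piece E) := Module.Finite.trans T (Piece E)
  exact ⟨Piece E, inferInstance, inferInstance, inferInstance, inferInstance,
    faithfullyFlat_of_connected R (Piece E), isDiag_piece hχgl hχ hEi hE0 hc1 hc2⟩

end Connected

end Groth.Agent.Lib.Helper6.CartIso
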