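import Mathlib
import Groth.Prelude.Def_SGA3b
import Groth.Prelude.Def_CartDual
import Groth.Agent.Lib.Helper6.CartIso.CD2
import Groth.Agent.Lib.Helper6.CartIso.CD4
import Groth.Agent.Lib.Helper6.QIso.QI2
import Groth.Agent.Lib.Helper6.FlatDef.FD5

/-!
# Cartier duality and isotriviality, part 5: a finite group of multiplicative type is finite locally
free and commutative; over a connected base it is isotrivial, and a finite locally free commutative
group is isotrivial iff its Cartier dual is étale (helper6)
-/

set_option autoImplicit false
set_option linter.unusedSectionVars false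
set_option linter.unusedVariables false
set_option linter.unusedSimpArgs false
set_option linter.style.haveILetI false
set_option linter.overlappingInstances false
set_option maxHeartbeats 800000
set_option synthInstance.maxHeartbeats 400000

universe u
open TensorProduct Coalgebra CartDual SGA3b
open Groth.Agent.Lib.Helper6.MultType Groth.Agent.Lib.Helper6.Isotriv
open Groth.Agent.Lib.Helper6.QIso

namespace Groth.Agent.Lib.Helper6.CartIso

section FromMultType

variable {R : Type u} [CommRing R] {A : Type u} [CommRing A] [HopfAlgebra R A]

theorem isCocomm_of_isMultType (h : IsMultType R A) : Coalgebra.IsCocomm R A := by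
  refine ⟨?_⟩
  refine LinearMap.ext fun a => ?_
  rw [LinearMap.comp_apply, ← sub_eq_zero]
  apply IsMultType.eq_zero_of_forall_chart h
  intro R' _ _ hflat hd
  obtain ⟨M, _, ⟨e⟩⟩ := hd
  haveI : Coalgebra.IsCocomm R' (R' ⊗[R] A) :=
    Groth.Agent.Helper2.HopfLib.isCocomm_of_bialgEquiv e inferInstance
  rw [TensorProduct.tmul_sub, sub_eq_zero]
  exact Groth.Agent.Helper2.CommP.descent R' a

/-- local statement: over a member of the cover, a finite group of multiplicative type with constant
type is flat and finitely presented as a module -/
theorem flat_and_fp_of_const {R₁ : Type u} [CommRing R₁] {A₁ : Type u} [CommRing A₁]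
    [HopfAlgebra R₁ A₁] [Module.Finite R₁ A₁] (h : IsMultTypeConst R₁ A₁) :
    Module.Flat R₁ A₁ ∧ Module.FinitePresentation R₁ A₁ := by
  obtain ⟨R', _, _, hff, M, _, ⟨φ⟩⟩ := h
  haveI := hff
  have hflat : Module.Flat R₁ A₁ := flat_of_chart φ
  refine ⟨hflat, ?_⟩
  rcases subsingleton_or_nontrivial R' with hsub | hnt
  · haveI : Subsingleton R₁ := (FaithfulSMul.algebraMap_injective R₁ R').subsingleton
    haveI : Subsingleton A₁ := Module.subsingleton R₁ A₁
    exact Module.finitePresentation_of_projective R₁ A₁
  · have hfg : Group.FG M := fg_of_chart φ inferInstance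
    haveI : Algebra.FinitePresentation R₁ A₁ := finitePresentation_of_chart φ hfg
    exact Module.FinitePresentation.of_finite_of_finitePresentation R₁ A₁

theorem projective_of_isMultType [Module.Finite R A] (h : IsMultType R A) :
    Module.Projective R A := by
  obtain ⟨s, hs, H⟩ := h
  haveI hloc : ∀ g : s, IsLocalizedModule (Submonoid.powers g.1)
      (TensorProduct.mk R (Localization.Away g.1) A 1) := fun g =>
    (isLocalizedModule_iff_isBaseChange (Submonoid.powers g.1) (Localization.Away g.1) _).mpr
      (TensorProduct.isBaseChange R A (Localization.Away g.1))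
  have hloc' : ∀ g : s, Module.Flat (Localization.Away g.1) (Localization.Away g.1 ⊗[R] A) ∧
      Module.FinitePresentation (Localization.Away g.1) (Localization.Away g.1 ⊗[R] A) :=
    fun g => flat_and_fp_of_const (H g.1 g.2)
  haveI : Module.FinitePresentation R A :=
    Module.FinitePresentation.of_localizationSpan' s hs
      (Rₚ := fun g => Localization.Away g.1) (Mₚ := fun g => Localization.Away g.1 ⊗[R] A)
      (fun g => TensorProduct.mk R (Localization.Away g.1) A 1) (fun g => (hloc' g).2)
  haveI : Module.Flat R A := by
    apply Module.flat_of_isLocalized_span R A s hs (fun g => Localization.Away g.1 ⊗[R] A)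
      (fun g => TensorProduct.mk R (Localization.Away g.1) A 1)
    intro g
    haveI := (hloc' g).1
    exact Module.Flat.trans R (Localization.Away g.1) (Localization.Away g.1 ⊗[R] A)
  exact Module.Flat.projective_of_finitePresentation

end FromMultType

section Finals

variable {R : Type u} [CommRing R] {A : Type u} [CommRing A] [HopfAlgebra R A]

/-- Over a connected base, a finite locally free commutative group scheme is isotrivial if and only
if its Cartier dual is étale. -/
theorem etale_dual_iff_isIsotrivial [ConnectedSpace (PrimeSpectrum R)] [Coalgebra.IsCocomm R A]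
    [Module.Finite R A] [Module.Projective R A] :
    Algebra.Etale R (D R A) ↔ IsIsotrivial R A :=
  ⟨isIsotrivial_of_etale_dual,
    fun h => etale_dual (Groth.Agent.Lib.Helper6.FlatDef.isMultType_of_isIsotrivial h)⟩

/-- Over a connected base, a finite group of multiplicative type is isotrivial. -/
theorem isIsotrivial_of_finite_of_connected [ConnectedSpace (PrimeSpectrum R)] [Module.Finite R A]
    (hA : IsMultType R A) : IsIsotrivial R A := by
  haveI := isCocomm_of_isMultType hA
  haveI := projective_of_isMultType hA
  exact isIsotrivial_of_etale_dual (etale_dual hA)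

end Finals

end Groth.Agent.Lib.Helper6.CartIso
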